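import Groth.Agent.Lib.SchColim29.FlatKernel
import Groth.Agent.Lib.CounitEpi51.Basic
import Groth.Agent.Lib.PProj.AffineGen
import Groth.Agent.Lib.BCNat51.Basic
import Groth.Agent.Lib.CohBasics.Affine
import Groth.Agent.Lib.CohDelta.AcycHomology
import Groth.Agent.Lib.Amp36.Modif.Glue
import Groth.Agent.Lib.QCoh.Sections
import Groth.Agent.Lib.Modules.Free

/-!
Generation of a kernel of an exact transform by the sections over affines of the target.
-/

set_option autoImplicit false
set_option linter.style.haveILetI false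

universe u

open CategoryTheory CategoryTheory.Limits AlgebraicGeometry Opposite TopologicalSpace
open scoped TensorProduct

noncomputable section

namespace Groth.Agent.Lib.KerGen51

open Groth.Agent.Lib Groth.Agent.Lib.Modules Groth.Agent.Lib.SchColim29

attribute [local instance] HasFiniteBiproducts.of_hasFiniteProducts

variable {X : Scheme.{u}}

/-- Over an affine `V`, sections on `U ⊓ V` are combinations of sections on `U`. -/
theorem span_inter {R : CommRingCat.{u}} (s : X ⟶ Spec R) [IsSeparated s] {U V : X.Opens}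
    (hU : IsAffineOpen U) (hV : IsAffineOpen V) :
    letI : Algebra Γ(X, V) Γ((U : Scheme.{u}), U.ι ⁻¹ᵁ V) := (U.ι.app V).hom.toAlgebra
    Submodule.span Γ(X, V) (Set.range fun a : Γ((U : Scheme.{u}), ⊤) =>
      (U : Scheme.{u}).presheaf.map (homOfLE (le_top (a := U.ι ⁻¹ᵁ V))).op a) = ⊤ := by
  letI : Algebra Γ(X, V) Γ((U : Scheme.{u}), U.ι ⁻¹ᵁ V) := (U.ι.app V).hom.toAlgebra
  let j := U.ι
  let ρ := ((U : Scheme.{u}).presheaf.map (homOfLE (le_top (a := j ⁻¹ᵁ V))).op).hom
  let S := Submodule.span Γ(X, V) (Set.range ρ)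
  haveI : IsSeparated (pullback.fst (j ≫ s) s) := inferInstance
  haveI hk : IsClosedImmersion (pullback.lift (𝟙 (U : Scheme.{u})) j (Category.id_comp _) :
      (U : Scheme.{u}) ⟶ pullback (j ≫ s) s) := by
    haveI : IsClosedImmersion (pullback.lift (𝟙 (U : Scheme.{u})) j (Category.id_comp _) ≫
        pullback.fst (j ≫ s) s) := by rw [pullback.lift_fst]; infer_instance
    exact IsClosedImmersion.of_comp _ (pullback.fst (j ≫ s) s)
  haveI : IsAffine (U : Scheme.{u}) := hU
  obtain ⟨-, hgen⟩ := PProj.affine_and_gen (𝟙 (U : Scheme.{u})) j (j ≫ s) s (Category.id_comp _) hk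
    (isAffineOpen_top (U : Scheme.{u})) hV (isAffineOpen_top (Spec R)) (fun _ _ => trivial) (fun _ _ => trivial)
  have hmul : ∀ x ∈ S, ∀ y ∈ S, x * y ∈ S := by
    intro x hx y hy
    induction hx using Submodule.span_induction with
    | mem _ h =>
      obtain ⟨a, rfl⟩ := h
      induction hy using Submodule.span_induction with
      | mem _ h =>
        obtain ⟨b, rfl⟩ := h
        exact Submodule.subset_span ⟨a * b, map_mul ρ a b⟩
      | zero => rw [mul_zero]; exact zero_mem _
      | add _ _ _ _ h1 h2 => rw [mul_add]; exact add_mem h1 h2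
      | smul c _ _ h1 => rw [mul_smul_comm]; exact Submodule.smul_mem _ c h1
    | zero => rw [zero_mul]; exact zero_mem _
    | add _ _ _ _ h1 h2 => rw [add_mul]; exact add_mem h1 h2
    | smul c _ _ h1 => rw [smul_mul_assoc]; exact Submodule.smul_mem _ c h1
  have h1 : (1 : Γ((U : Scheme.{u}), j ⁻¹ᵁ V)) ∈ S := Submodule.subset_span ⟨1, map_one ρ⟩
  refine eq_top_iff.2 fun v _ => ?_
  let W : (U : Scheme.{u}).Opens := (𝟙 (U : Scheme.{u})) ⁻¹ᵁ ⊤ ⊓ j ⁻¹ᵁ V
  have hW : W = j ⁻¹ᵁ V := top_inf_eq _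
  let e : Γ((U : Scheme.{u}), W) →+* Γ((U : Scheme.{u}), j ⁻¹ᵁ V) :=
    ((U : Scheme.{u}).presheaf.map (homOfLE hW.ge).op).hom
  let T : Subring Γ((U : Scheme.{u}), j ⁻¹ᵁ V) :=
    { carrier := S
      mul_mem' := fun hx hy => hmul _ hx _ hy
      one_mem' := h1
      add_mem' := S.add_mem
      zero_mem' := S.zero_mem
      neg_mem' := S.neg_mem }
  have hT : (⊤ : Subring Γ((U : Scheme.{u}), W)) ≤ T.comap e := by
    rw [← hgen, Subring.closure_le]
    rintro _ (⟨a, rfl⟩ | ⟨r, rfl⟩)
    · refine Submodule.subset_span ⟨a, ?_⟩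
      change _ = (Scheme.Hom.appLE (𝟙 (U : Scheme.{u})) ⊤ W _ ≫ (U : Scheme.{u}).presheaf.map _) a
      rw [Scheme.Hom.appLE_map]
      simp [Scheme.Hom.appLE, ρ]
    · show (j.appLE V W _ ≫ (U : Scheme.{u}).presheaf.map _) r ∈ S
      rw [Scheme.Hom.appLE_map, Scheme.Hom.appLE_eq_app]
      exact Algebra.algebraMap_eq_smul_one (R := Γ(X, V)) (A := Γ((U : Scheme.{u}), j ⁻¹ᵁ V)) r ▸ Submodule.smul_mem S r h1
  have hv := hT (Subring.mem_top ((U : Scheme.{u}).presheaf.map (homOfLE hW.le).op v))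
  have he : e ((U : Scheme.{u}).presheaf.map (homOfLE hW.le).op v) = v := by
    show ((U : Scheme.{u}).presheaf.map _ ≫ (U : Scheme.{u}).presheaf.map _) v = v
    rw [← Functor.map_comp]
    exact congr(($((U : Scheme.{u}).presheaf.map_id _)) v)
  exact he ▸ hv

variable {U : X.Opens}

/-- The direct image of the structure sheaf of an open. -/
abbrev J (U : X.Opens) : X.Modules := (Coh.push U.ι).obj (Coh.structureModule (U : Scheme.{u}))

/-- The unit section. -/
abbrev one (U : X.Opens) : Γ(J U, ⊤) := (1 : Γ((U : Scheme.{u}), U.ι ⁻¹ᵁ ⊤))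

/-- The map given by a section on the open. -/
abbrev phi (a : Γ(J U, ⊤)) : Coh.structureModule X ⟶ J U := Free.unitHom (J U) a

theorem phi_one_app (O : X.Opens) (r : Γ(X, O)) : (phi (one U)).app O r = U.ι.app O r := by
  refine (Free.unitHom_app (J U) (one U) O r).trans ?_
  let σ : Γ((U : Scheme.{u}), U.ι ⁻¹ᵁ ⊤) →+* Γ((U : Scheme.{u}), U.ι ⁻¹ᵁ O) :=
    ((U : Scheme.{u}).presheaf.map
      ((Opens.map U.ι.base).map (homOfLE (le_top (a := O)))).op).hom
  exact (congrArg (fun t : Γ((U : Scheme.{u}), U.ι ⁻¹ᵁ O) =>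
    (show Γ((U : Scheme.{u}), U.ι ⁻¹ᵁ O) from U.ι.app O r) * t) (map_one σ)).trans (mul_one _)

theorem bijective_phi_one_stalk {x : X} (hx : x ∈ U) :
    Function.Bijective (StalkModule.stalkMapₗ (phi (one U)) x) := by
  have hb : ∀ O : X.Opens, O ≤ U → Function.Bijective (U.ι.app O) := fun O hO => by
    haveI : IsIso (U.ι.app O) := U.ι.isIso_app O (by rwa [Scheme.Opens.opensRange_ι])
    exact ConcreteCategory.bijective_of_isIso _
  refine ⟨fun a b hab => ?_, fun v => ?_⟩
  · obtain ⟨O, hO, a, rfl⟩ := TopCat.Presheaf.exists_germ_eq (Coh.structureModule X).presheaf a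
    obtain ⟨O', hO', b, rfl⟩ := TopCat.Presheaf.exists_germ_eq (Coh.structureModule X).presheaf b
    rw [StalkModule.stalkMapₗ_germ, StalkModule.stalkMapₗ_germ] at hab
    obtain ⟨O₁, h₁, i, i', e⟩ := TopCat.Presheaf.germ_eq (J U).presheaf x hO hO' _ _ hab
    let k : O₁ ⊓ U ⟶ O := homOfLE (inf_le_left.trans (leOfHom i))
    let k' : O₁ ⊓ U ⟶ O' := homOfLE (inf_le_left.trans (leOfHom i'))
    rw [← TopCat.Presheaf.germ_res_apply _ k x ⟨h₁, hx⟩, ← TopCat.Presheaf.germ_res_apply _ k' x ⟨h₁, hx⟩]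
    refine congrArg _ ((hb _ inf_le_right).1 ?_)
    refine (phi_one_app _ _).symm.trans (Eq.trans ?_ (phi_one_app _ _))
    refine (ClSub.Basis.map_app (phi (one U)) k.le a).trans
      (Eq.trans ?_ (ClSub.Basis.map_app (phi (one U)) k'.le b).symm)
    have key : ∀ {O₂ : X.Opens} (l : O₁ ⟶ O₂) (y : Γ(J U, O₂)),
        (J U).presheaf.map (homOfLE ((inf_le_left : O₁ ⊓ U ≤ O₁).trans l.le)).op y =
          (J U).presheaf.map (homOfLE (inf_le_left : O₁ ⊓ U ≤ O₁)).op ((J U).presheaf.map l.op y) :=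
      fun l y => by
        rw [← ConcreteCategory.comp_apply, ← Functor.map_comp]
        rfl
    exact (key i _).trans ((congrArg _ e).trans (key i' _).symm)
  · obtain ⟨O, hO, s, rfl⟩ := TopCat.Presheaf.exists_germ_eq (J U).presheaf v
    obtain ⟨r, hr⟩ := (hb (O ⊓ U) inf_le_right).2
      ((J U).presheaf.map (homOfLE inf_le_left).op s)
    refine ⟨(Coh.structureModule X).presheaf.germ (O ⊓ U) x ⟨hO, hx⟩ r, ?_⟩
    rw [StalkModule.stalkMapₗ_germ, phi_one_app, hr]
    exact TopCat.Presheaf.germ_res_apply _ _ _ _ _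

theorem phi_stalk {x : X} (hx : x ∈ U) (a : Γ(J U, ⊤)) :
    ∃ c : X.presheaf.stalk x,
      StalkModule.stalkMapₗ (phi a) x = c • StalkModule.stalkMapₗ (phi (one U)) x := by
  let g₁ := (Coh.structureModule X).presheaf.germ ⊤ x trivial (1 : Γ(X, ⊤))
  have hg : ∀ w : (Coh.structureModule X).presheaf.stalk x, ∃ r : X.presheaf.stalk x, r • g₁ = w := by
    intro w
    obtain ⟨O, hO, r, rfl⟩ := TopCat.Presheaf.exists_germ_eq (Coh.structureModule X).presheaf w
    let σ : Γ(X, ⊤) →+* Γ(X, O) := (X.presheaf.map (homOfLE (le_top (a := O))).op).hom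
    have e : g₁ = (Coh.structureModule X).presheaf.germ O x hO (σ 1) :=
      (TopCat.Presheaf.germ_res_apply (Coh.structureModule X).presheaf (homOfLE (le_top (a := O))) x hO _).symm
    refine ⟨X.presheaf.germ O x hO r, ?_⟩
    rw [e, map_one]
    refine (StalkModule.germ_smul (M := Coh.structureModule X) hO r (1 : Γ(X, O))).symm.trans ?_
    exact congrArg _ (mul_one (show Γ(X, O) from r))
  obtain ⟨w, hw⟩ := (bijective_phi_one_stalk hx).2 ((J U).presheaf.germ ⊤ x trivial a)
  obtain ⟨c, rfl⟩ := hg w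
  have h1 : StalkModule.stalkMapₗ (phi a) x g₁ = (J U).presheaf.germ ⊤ x trivial a :=
    (StalkModule.stalkMapₗ_germ _ _ _).trans (congrArg _ (Free.unitHom_app_one _ a))
  refine ⟨c, LinearMap.ext fun v => ?_⟩
  obtain ⟨r, rfl⟩ := hg v
  rw [map_smul, LinearMap.smul_apply, map_smul, h1, ← hw, map_smul, smul_comm]

variable {R : CommRingCat.{u}} (s : X ⟶ Spec R) [IsSeparated s]

include s in
theorem isQCoh_J (hU : IsAffineOpen U) : (J U).IsQuasicoherent := by
  haveI : IsAffine (U : Scheme.{u}) := hU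
  haveI : IsAffineHom U.ι := IsAffineHom.of_comp U.ι s
  haveI := TensorMod.QCohInv.isQCoh_structureModule (U : Scheme.{u})
  exact QCoh.Pushforward.isQCoh_pushforward U.ι

include s in
theorem span_germ_J (hU : IsAffineOpen U) (x : X) :
    Submodule.span (X.presheaf.stalk x)
      (Set.range fun a : Γ(J U, ⊤) => (J U).presheaf.germ ⊤ x trivial a) = ⊤ := by
  obtain ⟨V, hV, hx, -⟩ := exists_isAffineOpen_mem_and_subset (U := (⊤ : X.Opens)) (x := x) trivial
  haveI := isQCoh_J s hU
  let Ss : Set Γ(J U, V) := Set.range fun a : Γ(J U, ⊤) => (J U).presheaf.map (homOfLE le_top).op a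
  have h : Submodule.span Γ(X, V) Ss = ⊤ := by
    refine eq_top_iff.2 fun v _ => ?_
    letI : Algebra Γ(X, V) Γ((U : Scheme.{u}), U.ι ⁻¹ᵁ V) := (U.ι.app V).hom.toAlgebra
    suffices hs' : ∀ w : Γ((U : Scheme.{u}), U.ι ⁻¹ᵁ V), w ∈ Submodule.span Γ(X, V)
        (Set.range fun a : Γ((U : Scheme.{u}), ⊤) =>
          (U : Scheme.{u}).presheaf.map (homOfLE (le_top (a := U.ι ⁻¹ᵁ V))).op a) →
        (show Γ(J U, V) from w) ∈ Submodule.span Γ(X, V) Ss from
      hs' v ((span_inter s hU hV).ge trivial)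
    intro w hw
    induction hw using Submodule.span_induction with
    | mem _ h =>
      obtain ⟨a, rfl⟩ := h
      exact Submodule.subset_span ⟨a, rfl⟩
    | zero => exact zero_mem _
    | add _ _ _ _ h1 h2 => exact add_mem h1 h2
    | smul c _ _ h1 => exact Submodule.smul_mem _ c h1
  have := CohBasics.Affine.germ_span_eq_top (M := J U) hV _ h hx
  rw [← Set.range_comp] at this
  refine Eq.trans ?_ this
  congr 1
  exact congrArg Set.range (funext fun a => (TopCat.Presheaf.germ_res_apply _ _ _ _ _).symm)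

variable {P : Scheme.{u}} (p : P ⟶ X) (K : P.Modules)

/-- Elements of the tensor product as elements of the stalk of the transform. -/
def tens (M : X.Modules) (z : P) :
    letI := (p.stalkMap z).hom.toAlgebra
    ((P.presheaf.stalk z ⊗[X.presheaf.stalk (p.base z)] M.presheaf.stalk (p.base z))
      ⊗[P.presheaf.stalk z] K.presheaf.stalk z) →ₗ[P.presheaf.stalk z]
        ((FlatKernel.T p K).obj M).presheaf.stalk z :=
  (((FlatKernel.stalkIso p K z).app M).inv).hom

theorem tens_surjective (M : X.Modules) (z : P) : Function.Surjective (tens p K M z) :=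
  ((FlatKernel.stalkIso p K z).app M).toLinearEquiv.symm.surjective

/-- The stalk of a transformed map. -/
theorem stalk_T {M N : X.Modules} (f : M ⟶ N) (z : P) :
    letI := (p.stalkMap z).hom.toAlgebra
    ∀ v, StalkModule.stalkMapₗ ((FlatKernel.T p K).map f) z (tens p K M z v) =
      tens p K N z (LinearMap.rTensor (K.presheaf.stalk z)
        ((StalkModule.stalkMapₗ f (p.base z)).baseChange (P.presheaf.stalk z)) v) :=
  fun v => (ConcreteCategory.congr_hom ((FlatKernel.stalkIso p K z).inv.naturality f) v).symm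

theorem bijective_T_phi_one {z : P} (hz : p.base z ∈ U) :
    Function.Bijective (StalkModule.stalkMapₗ ((FlatKernel.T p K).map (phi (one U))) z) := by
  haveI : IsIso ((StalkModule.stalkModFunctor X (p.base z)).map (phi (one U))) :=
    (ConcreteCategory.isIso_iff_bijective _).2 (bijective_phi_one_stalk hz)
  haveI : IsIso ((FlatKernel.T p K ⋙ StalkModule.stalkModFunctor P z).map (phi (one U))) :=
    (NatIso.isIso_map_iff (FlatKernel.stalkIso p K z) _).2 (by dsimp only [Functor.comp_map]; infer_instance)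
  exact ConcreteCategory.bijective_of_isIso
    ((FlatKernel.T p K ⋙ StalkModule.stalkModFunctor P z).map (phi (one U)))

theorem T_phi_stalk {z : P} (hz : p.base z ∈ U) (a : Γ(J U, ⊤)) :
    ∃ c : P.presheaf.stalk z, ∀ v, StalkModule.stalkMapₗ ((FlatKernel.T p K).map (phi a)) z v =
      c • StalkModule.stalkMapₗ ((FlatKernel.T p K).map (phi (one U))) z v := by
  letI := (p.stalkMap z).hom.toAlgebra
  obtain ⟨c, hc⟩ := phi_stalk hz a
  refine ⟨(p.stalkMap z).hom c, fun v => ?_⟩
  obtain ⟨w, rfl⟩ := tens_surjective p K _ z v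
  refine (stalk_T p K _ z w).trans (Eq.trans ?_ (congrArg _ (stalk_T p K _ z w).symm))
  rw [← map_smul]
  refine congrArg _ ?_
  rw [hc, LinearMap.baseChange_smul]
  induction w using TensorProduct.induction_on with
  | zero => simp
  | add x y hx hy => rw [map_add, map_add, smul_add, hx, hy]
  | tmul x y =>
    rw [LinearMap.rTensor_tmul, LinearMap.rTensor_tmul, LinearMap.smul_apply, TensorProduct.smul_tmul']
    exact congrArg (· ⊗ₜ y) (algebraMap_smul (P.presheaf.stalk z) c _).symm

include s in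
theorem exists_finset (hU : IsAffineOpen U) (z : P) (v : ((FlatKernel.T p K).obj (J U)).presheaf.stalk z) :
    ∃ A : Finset Γ(J U, ⊤), v ∈ ⨆ a ∈ A,
      LinearMap.range (StalkModule.stalkMapₗ ((FlatKernel.T p K).map (phi a)) z) := by
  letI := (p.stalkMap z).hom.toAlgebra
  refine Submodule.mem_iSup_iff_exists_finset.1 ?_
  obtain ⟨w, rfl⟩ := tens_surjective p K _ z v
  induction w using TensorProduct.induction_on with
  | zero => rw [map_zero]; exact zero_mem _
  | add a b ha hb => rw [map_add]; exact add_mem ha hb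
  | tmul t k =>
    induction t using TensorProduct.induction_on with
    | zero => rw [TensorProduct.zero_tmul, map_zero]; exact zero_mem _
    | add a b ha hb => rw [TensorProduct.add_tmul, map_add]; exact add_mem ha hb
    | tmul b m =>
      have hm : m ∈ Submodule.span (X.presheaf.stalk (p.base z))
          (Set.range fun a : Γ(J U, ⊤) => (J U).presheaf.germ ⊤ (p.base z) trivial a) :=
        (span_germ_J s hU (p.base z)).ge trivial
      induction hm using Submodule.span_induction generalizing b with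
      | mem _ h =>
        obtain ⟨a, rfl⟩ := h
        refine Submodule.mem_iSup_of_mem a ⟨tens p K _ z
          ((b ⊗ₜ (Coh.structureModule X).presheaf.germ ⊤ (p.base z) trivial (1 : Γ(X, ⊤))) ⊗ₜ k), ?_⟩
        refine (stalk_T p K _ z _).trans (congrArg _ ?_)
        rw [LinearMap.rTensor_tmul, LinearMap.baseChange_tmul]
        exact congrArg (fun t => (b ⊗ₜ t) ⊗ₜ k)
          ((StalkModule.stalkMapₗ_germ (phi a) _ _).trans (congrArg _ (Free.unitHom_app_one _ a)))
      | zero => rw [TensorProduct.tmul_zero, TensorProduct.zero_tmul, map_zero]; exact zero_mem _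
      | add m₁ m₂ _ _ h1 h2 => rw [TensorProduct.tmul_add, TensorProduct.add_tmul, map_add]; exact add_mem (h1 b) (h2 b)
      | smul r m _ h1 => rw [← TensorProduct.smul_tmul]; exact h1 _

/-- A finite family of maps out of the structure module. -/
abbrev Phi (A : Finset Γ(J U, ⊤)) : (⨁ fun _ : A => Coh.structureModule X) ⟶ J U :=
  biproduct.desc fun a => phi a.1

theorem range_le_Phi {A : Finset Γ(J U, ⊤)} {a : Γ(J U, ⊤)} (ha : a ∈ A) (z : P) :
    LinearMap.range (StalkModule.stalkMapₗ ((FlatKernel.T p K).map (phi a)) z) ≤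
      LinearMap.range (StalkModule.stalkMapₗ ((FlatKernel.T p K).map (Phi A)) z) := by
  rw [show phi a = biproduct.ι (fun _ : A => Coh.structureModule X) ⟨a, ha⟩ ≫ Phi A from
    (biproduct.ι_desc (fun b : A => phi b.1) ⟨a, ha⟩).symm, Functor.map_comp, StalkModule.stalkMapₗ_comp]
  exact LinearMap.range_comp_le_range _ _

include s in
theorem exists_cover (hU : IsAffineOpen U) {V : P.Opens} (hV : IsCompact (V : Set P))
    (e : Γ((FlatKernel.T p K).obj (J U), V)) :
    ∃ A : Finset Γ(J U, ⊤), ∀ (w : P) (hw : w ∈ V),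
      ((FlatKernel.T p K).obj (J U)).presheaf.germ V w hw e ∈
        LinearMap.range (StalkModule.stalkMapₗ ((FlatKernel.T p K).map (Phi A)) w) := by
  classical
  let G := (FlatKernel.T p K).obj (J U)
  have h : ∀ w : V, ∃ (A : Finset Γ(J U, ⊤)) (O : P.Opens), w.1 ∈ O ∧ ∀ (w' : P) (hw' : w' ∈ O ⊓ V),
      G.presheaf.germ V w' hw'.2 e ∈
        LinearMap.range (StalkModule.stalkMapₗ ((FlatKernel.T p K).map (Phi A)) w') := by
    intro w
    obtain ⟨A, hA⟩ := exists_finset s p K hU w.1 (G.presheaf.germ V w.1 w.2 e)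
    obtain ⟨v, hv⟩ : G.presheaf.germ V w.1 w.2 e ∈
        LinearMap.range (StalkModule.stalkMapₗ ((FlatKernel.T p K).map (Phi A)) w.1) :=
      SetLike.le_def.1 (iSup₂_le fun a ha => range_le_Phi p K ha w.1) hA
    obtain ⟨O, hO, t, rfl⟩ :=
      TopCat.Presheaf.exists_germ_eq ((FlatKernel.T p K).obj (⨁ fun _ : A => Coh.structureModule X)).presheaf v
    rw [StalkModule.stalkMapₗ_germ] at hv
    obtain ⟨O₁, h₁, i, i', eq⟩ := TopCat.Presheaf.germ_eq G.presheaf w.1 hO w.2 _ _ hv
    refine ⟨A, O₁, h₁, fun w' hw' => ⟨((FlatKernel.T p K).obj _).presheaf.germ O w' (leOfHom i hw'.1) t, ?_⟩⟩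
    rw [StalkModule.stalkMapₗ_germ, ← TopCat.Presheaf.germ_res_apply G.presheaf i w' hw'.1, eq,
      TopCat.Presheaf.germ_res_apply]
  choose A O hwO hA using h
  obtain ⟨t, ht⟩ := hV.elim_finite_subcover (fun w : V => (O w : Set P)) (fun w => (O w).isOpen)
    fun w hw => Set.mem_iUnion.2 ⟨⟨w, hw⟩, hwO _⟩
  refine ⟨t.biUnion A, fun w hw => ?_⟩
  obtain ⟨w₀, hw₀, hw'⟩ := Set.mem_iUnion₂.1 (ht hw)
  refine SetLike.le_def.1 ?_ (hA w₀ w ⟨hw', hw⟩)
  haveI : ∀ B : Finset Γ(J U, ⊤), Finite (B : Type u) := fun B => inferInstance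
  rw [show Phi (A w₀) = biproduct.desc (fun a => biproduct.ι (fun _ : (t.biUnion A : Finset _) =>
      Coh.structureModule X) ⟨a.1, Finset.mem_biUnion.2 ⟨w₀, hw₀, a.2⟩⟩) ≫ Phi (t.biUnion A) from
    biproduct.hom_ext' _ _ fun a => by
      rw [biproduct.ι_desc, ← Category.assoc, biproduct.ι_desc, biproduct.ι_desc], Functor.map_comp, StalkModule.stalkMapₗ_comp]
  exact LinearMap.range_comp_le_range _ _

end Groth.Agent.Lib.KerGen51
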