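import Groth.Agent.Lib.KerGen51.Basic
import Groth.Agent.Lib.QuadricKer.Step
import Groth.Agent.Lib.Modules.TensorSec

/-!
The kernel of an exact transform is generated by its sections over preimages of affines.
-/

set_option autoImplicit false
set_option linter.style.haveILetI false

universe u

open CategoryTheory CategoryTheory.Limits AlgebraicGeometry Opposite TopologicalSpace

noncomputable section

namespace Groth.Agent.Lib.KerGen51

open Groth.Agent.Lib Groth.Agent.Lib.Modules Groth.Agent.Lib.SchColim29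

attribute [local instance] HasFiniteBiproducts.of_hasFiniteProducts

/-- A combination of maps proportional to one of them at a point. -/
theorem mem_map_of_sum {P : Scheme.{u}} {M O' N : P.Modules} {κ : Type u} [Fintype κ] (θ : O' ⟶ N)
    (φ : κ → (O' ⟶ N)) (π : κ → (M ⟶ O')) {V : P.Opens} {z : P} (hz : z ∈ V)
    (hc : ∀ i, ∃ c : P.presheaf.stalk z, ∀ v,
      StalkModule.stalkMapₗ (φ i) z v = c • StalkModule.stalkMapₗ θ z v) (t : Γ(M, V)) :
    N.presheaf.germ V z hz ((∑ i, π i ≫ φ i).app V t) ∈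
      (Submodule.span (P.presheaf.stalk z) (Set.range fun a : Γ(O', V) => O'.presheaf.germ V z hz a)).map
        (StalkModule.stalkMapₗ θ z) := by
  rw [← StalkModule.stalkMapₗ_germ]
  let ev : (M ⟶ N) →+ N.presheaf.stalk z :=
    AddMonoidHom.mk' (fun χ => StalkModule.stalkMapₗ χ z (M.presheaf.germ V z hz t)) fun χ χ' =>
      LinearMap.congr_fun (congrArg ModuleCat.Hom.hom
        ((StalkModule.stalkModFunctor P z).map_add (f := χ) (g := χ'))) (M.presheaf.germ V z hz t)
  show ev (∑ i, π i ≫ φ i) ∈ _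
  rw [map_sum]
  refine sum_mem fun i _ => ?_
  obtain ⟨c, hc⟩ := hc i
  show StalkModule.stalkMapₗ (π i ≫ φ i) z (M.presheaf.germ V z hz t) ∈ _
  rw [StalkModule.stalkMapₗ_comp, LinearMap.comp_apply, StalkModule.stalkMapₗ_germ, hc]
  exact Submodule.smul_mem _ c (Submodule.mem_map_of_mem
    (Submodule.subset_span (Set.mem_range_self ((π i).app V t))))

variable {R : CommRingCat.{u}} {X Y : Scheme.{u}} (sX : X ⟶ Spec R) (sY : Y ⟶ Spec R)
  [IsSeparated sX] [CompactSpace X]
  (K : (pullback sX sY).Modules)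

/-- The transform of the structure module is the kernel. -/
def transUnitIso : (FlatKernel.T (pullback.fst sX sY) K).obj (Coh.structureModule X) ≅ K :=
  (BCNat51.tensorRightIso K).app _ ≪≫
    TensorMod.Basic.tensorIso (PicLoc.pullbackStructureIso (pullback.fst sX sY)) (Iso.refl K) ≪≫
      TensorMod.Basic.leftUnit K

theorem isQCoh_T (hK : Coh.IsQCoh K) {M : X.Modules} (hM : M.IsQuasicoherent) :
    ((FlatKernel.T (pullback.fst sX sY) K).obj M).IsQuasicoherent := by
  haveI : K.IsQuasicoherent := hK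
  haveI := QCoh.Pullback.isQCoh_pullback (pullback.fst sX sY) M
  exact TensorMod.TensorQCoh.isQCoh_tensorMod ((Scheme.Modules.pullback (pullback.fst sX sY)).obj M) K

variable (hK : Coh.IsQCoh K) {U : X.Opens} (hU : IsAffineOpen U) {W : Y.Opens} (hW : IsAffineOpen W)

include hK hU hW in
theorem span_germ_TJ {z : (pullback sX sY : Scheme.{u})} (hz : pullback.fst sX sY z ∈ U)
    (hzW : pullback.snd sX sY z ∈ W) :
    Submodule.span ((pullback sX sY).presheaf.stalk z)
      (Set.range fun e : Γ((FlatKernel.T (pullback.fst sX sY) K).obj (J U), pullback.snd sX sY ⁻¹ᵁ W) =>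
        ((FlatKernel.T (pullback.fst sX sY) K).obj (J U)).presheaf.germ _ z hzW e) = ⊤ := by
  let p := pullback.fst sX sY
  let q := pullback.snd sX sY
  haveI : IsAffine (U : Scheme.{u}) := hU
  haveI : IsAffineHom U.ι := IsAffineHom.of_comp U.ι sX
  have hJ := isQCoh_J sX hU
  haveI := TensorMod.QCohInv.isQCoh_structureModule (U : Scheme.{u})
  let ι₀ := (p ⁻¹ᵁ U).ι
  have hsq : IsPullback (p ∣_ U) ι₀ U.ι p := isPullback_morphismRestrict p U
  haveI : IsAffineHom ι₀ := MorphismProperty.of_isPullback hsq inferInstance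
  haveI : K.IsQuasicoherent := hK
  let O' := (Scheme.Modules.pullback (p ∣_ U)).obj (Coh.structureModule (U : Scheme.{u}))
  haveI : O'.IsQuasicoherent := QCoh.Pullback.isQCoh_pullback _ _
  haveI := ZarCoh.AffineBC.isIso_bc hsq (Coh.structureModule (U : Scheme.{u}))
  let N := CohB1.tensorMod ((Scheme.Modules.pullback ι₀).obj K) O'
  let ε : (FlatKernel.T p K).obj (J U) ≅ (Coh.push ι₀).obj N :=
    (BCNat51.tensorRightIso K).app _ ≪≫
      TensorMod.Basic.tensorIso (asIso (ZarCoh.AffineBC.bc hsq (Coh.structureModule (U : Scheme.{u}))))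
        (Iso.refl K) ≪≫
      TensorMod.Basic.comm _ _ ≪≫ ProjAffine51.projIso ι₀ K O'
  have hP₀ : IsAffineOpen (p ⁻¹ᵁ U ⊓ q ⁻¹ᵁ W) :=
    (PProj.affine_and_gen p q sX sY pullback.condition
      (by rw [show pullback.lift p q pullback.condition = 𝟙 _ from by ext1 <;> simp [p, q]]; infer_instance)
      hU hW (isAffineOpen_top (Spec R)) (fun _ _ => trivial) (fun _ _ => trivial)).1
  let P₀ := p ⁻¹ᵁ U ⊓ q ⁻¹ᵁ W
  let G := (FlatKernel.T p K).obj (J U)
  haveI : G.IsQuasicoherent := isQCoh_T sX sY K hK hJ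
  have hsurj : Function.Surjective (G.presheaf.map (homOfLE (inf_le_right : P₀ ≤ q ⁻¹ᵁ W)).op) := by
    intro v
    have hle : ι₀ ⁻¹ᵁ (q ⁻¹ᵁ W) ≤ ι₀ ⁻¹ᵁ P₀ := fun w hw => ⟨w.2, hw⟩
    let w : Γ((Coh.push ι₀).obj N, q ⁻¹ᵁ W) :=
      N.presheaf.map (homOfLE hle).op (ε.hom.app P₀ v)
    refine ⟨ε.inv.app _ w, ?_⟩
    rw [← ClSub.Basis.map_app ε.inv inf_le_right]
    have e : ((Coh.push ι₀).obj N).presheaf.map (homOfLE (inf_le_right : P₀ ≤ q ⁻¹ᵁ W)).op w =
        ε.hom.app P₀ v := by
      show N.presheaf.map _ (N.presheaf.map _ (ε.hom.app P₀ v)) = _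
      rw [← ConcreteCategory.comp_apply, ← Functor.map_comp]
      exact congr(($(N.presheaf.map_id _)) (ε.hom.app P₀ v))
    rw [e, ← ConcreteCategory.comp_apply, ← Scheme.Modules.Hom.comp_app, ε.hom_inv_id]
    rfl
  have h := CohBasics.Affine.germ_span_eq_top (M := G) hP₀
    (Set.range (G.presheaf.map (homOfLE (inf_le_right : P₀ ≤ q ⁻¹ᵁ W)).op))
    (by rw [hsurj.range_eq, Submodule.span_univ]) (x := z) ⟨hz, hzW⟩
  rw [← Set.range_comp] at h
  refine Eq.trans ?_ h
  congr 1
  exact congrArg Set.range (funext fun e => (TopCat.Presheaf.germ_res_apply _ _ _ _ _).symm)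

variable [HasInjectiveResolutions (pullback sX sY).Modules]
  (hKf : FlatMod.IsFlatOver (pullback.fst sX sY) K)
  (hKa : ∀ M : X.Modules, Coh.IsQCoh M → IsZero ((Coh.Rpush (pullback.snd sX sY) 1).obj
    ((FlatKernel.T (pullback.fst sX sY) K).obj M)))

include hK hU hW hKf hKa in
theorem exists_lift (e : Γ((FlatKernel.T (pullback.fst sX sY) K).obj (J U), pullback.snd sX sY ⁻¹ᵁ W)) :
    ∃ (A : Finset Γ(J U, ⊤))
      (t : Γ((FlatKernel.T (pullback.fst sX sY) K).obj (⨁ fun _ : A => Coh.structureModule X),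
        pullback.snd sX sY ⁻¹ᵁ W)),
      ((FlatKernel.T (pullback.fst sX sY) K).map (Phi A)).app _ t = e := by
  let p := pullback.fst sX sY
  let q := pullback.snd sX sY
  let V := q ⁻¹ᵁ W
  let T := FlatKernel.T p K
  haveI : QuasiCompact sX := quasiCompact_of_compactSpace sX
  haveI : QuasiCompact q := inferInstance
  obtain ⟨A, hA⟩ := exists_cover sX p K hU (q.isCompact_preimage hW.isCompact) e
  haveI hJ := isQCoh_J sX hU
  haveI hF : (⨁ fun _ : A => Coh.structureModule X).IsQuasicoherent :=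
    QCoh.Closure.isQCoh_of_isColimit (biproduct.isColimit fun _ : A => Coh.structureModule X)
      fun _ => TensorMod.QCohInv.isQCoh_structureModule X
  haveI hI : (Abelian.image (Phi A)).IsQuasicoherent := by
    haveI := QCoh.Closure.isQCoh_cokernel (Phi A)
    exact QCoh.Closure.isQCoh_kernel _
  let ι := Abelian.image.ι (Phi A)
  let g := Abelian.factorThruImage (Phi A)
  have hg : g ≫ ι = Phi A := Abelian.image.fac _
  haveI : Mono (T.map ι) := FlatKernel.mono_map p K hKf ι
  have hTΦ : T.map g ≫ T.map ι = T.map (Phi A) := by rw [← Functor.map_comp]; exact congrArg T.map hg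
  obtain ⟨y, rfl⟩ := Amp36.Modif.Glue.exists_app_eq (T.map ι) V e (by
    refine TopCat.Presheaf.section_ext (⟨(cokernel (T.map ι)).presheaf, (cokernel (T.map ι)).isSheaf⟩ :
      TopCat.Sheaf AddCommGrpCat.{u} (pullback sX sY : Scheme.{u})) V _ _ fun w hw => ?_
    show (cokernel (T.map ι)).presheaf.germ V w hw _ = (cokernel (T.map ι)).presheaf.germ V w hw 0
    rw [map_zero, ← StalkModule.stalkMapₗ_germ]
    obtain ⟨v, hv⟩ := hA w hw
    rw [← hv, ← LinearMap.comp_apply, ← StalkModule.stalkMapₗ_comp,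
      show (FlatKernel.T p K).map (Phi A) = T.map g ≫ T.map ι from hTΦ.symm, Category.assoc,
      cokernel.condition, comp_zero]
    exact LinearMap.congr_fun
      (congrArg ModuleCat.Hom.hom ((StalkModule.stalkModFunctor (pullback sX sY) w).map_zero _ _)) v)
  haveI := QCoh.Closure.isQCoh_kernel g
  have hS : (ShortComplex.mk (kernel.ι g) g (kernel.condition g)).ShortExact :=
    ShortComplex.ShortExact.mk' (ShortComplex.exact_of_f_is_kernel _ (kernelIsKernel g)) inferInstance inferInstance
  haveI := FlatKernel.preservesHomology p K hKf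
  haveI := T.preservesFiniteLimits_of_preservesHomology
  haveI := T.preservesFiniteColimits_of_preservesHomology
  have hTS := hS.map_of_exact T
  haveI hepi : Epi ((Coh.push q).map (T.map g)) :=
    CohDelta.AcycHomology.epi_map_g (Coh.push q) hTS (hKa _ ‹_›)
  haveI := isQCoh_T sX sY K hK hF
  haveI := isQCoh_T sX sY K hK hI
  haveI : ((Coh.push q).obj (T.obj (⨁ fun _ : A => Coh.structureModule X))).IsQuasicoherent :=
    QCoh.Pushforward.isQCoh_pushforward q
  haveI : ((Coh.push q).obj (T.obj (Abelian.image (Phi A)))).IsQuasicoherent :=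
    QCoh.Pushforward.isQCoh_pushforward q
  obtain ⟨t, ht⟩ := QCoh.Closure.sections_surjective_of_epi ((Coh.push q).map (T.map g)) hW y
  refine ⟨A, t, ?_⟩
  exact (congrArg (fun φ => φ.app V t) hTΦ.symm).trans (congrArg ((T.map ι).app V) ht)

include hK hKf hKa in
/-- The kernel is generated by its sections over the preimage of an affine. -/
theorem genOn {W : Y.Opens} (hW : IsAffineOpen W) {z : (pullback sX sY : Scheme.{u})}
    (hzW : pullback.snd sX sY z ∈ W) :
    CounitEpi51.GenOn K (V := pullback.snd sX sY ⁻¹ᵁ W) hzW := by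
  classical
  let p := pullback.fst sX sY
  let V := pullback.snd sX sY ⁻¹ᵁ W
  let T := FlatKernel.T p K
  obtain ⟨U, hU, hz, -⟩ := exists_isAffineOpen_mem_and_subset (U := (⊤ : X.Opens)) (x := p z) trivial
  let T₁ := T.obj (Coh.structureModule X)
  let S := Submodule.span ((pullback sX sY).presheaf.stalk z)
    (Set.range fun t : Γ(T₁, V) => T₁.presheaf.germ V z hzW t)
  let θ := StalkModule.stalkMapₗ (T.map (phi (one U))) z
  have hθ : Function.Bijective θ := bijective_T_phi_one p K hz
  have hmap : (⊤ : Submodule _ _) ≤ S.map θ := by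
    rw [← span_germ_TJ sX sY K hK hU hW hz hzW, Submodule.span_le]
    rintro _ ⟨e, rfl⟩
    obtain ⟨A, t, rfl⟩ := exists_lift sX sY K hK hU hW hKf hKa e
    show (T.obj (J U)).presheaf.germ V z hzW ((T.map (Phi A)).app V t) ∈ S.map θ
    have hΦ : Phi A = ∑ a : A, biproduct.π (fun _ : A => Coh.structureModule X) a ≫ phi a.1 :=
      biproduct.hom_ext' _ _ fun a => by
        rw [biproduct.ι_desc, Preadditive.comp_sum, Finset.sum_eq_single a
          (fun b _ hb => by rw [biproduct.ι_π_ne_assoc _ hb.symm, zero_comp])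
          (fun h => (h (Finset.mem_univ a)).elim), biproduct.ι_π_self_assoc]
    haveI : T.Additive := inferInstance
    have hTΦ : T.map (Phi A) = ∑ a : A,
        T.map (biproduct.π (fun _ : A => Coh.structureModule X) a) ≫ T.map (phi a.1) := by
      rw [hΦ, Functor.map_sum]
      exact Finset.sum_congr rfl fun a _ => T.map_comp _ _
    rw [hTΦ]
    exact mem_map_of_sum (T.map (phi (one U))) (fun a : A => T.map (phi a.1))
      (fun a : A => T.map (biproduct.π (fun _ : A => Coh.structureModule X) a)) hzW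
      (fun a => T_phi_stalk p K hz a.1) t
  have hS : S = ⊤ := eq_top_iff.2 fun v _ => by
    obtain ⟨w, hw, e⟩ := hmap (Submodule.mem_top (x := θ v))
    exact hθ.1 e ▸ hw
  let ε := transUnitIso sX sY K
  refine eq_top_iff.2 fun v _ => ?_
  have hbij : Function.Surjective (StalkModule.stalkMapₗ ε.hom z) :=
    ((StalkModule.stalkModFunctor (pullback sX sY) z).mapIso ε).toLinearEquiv.surjective
  obtain ⟨w, rfl⟩ := hbij v
  have hw : w ∈ S := hS ▸ Submodule.mem_top
  have h := Submodule.mem_map_of_mem (f := StalkModule.stalkMapₗ ε.hom z) hw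
  refine SetLike.le_def.1 ?_ h
  rw [Submodule.map_span, Submodule.span_le]
  rintro _ ⟨_, ⟨t, rfl⟩, rfl⟩
  rw [StalkModule.stalkMapₗ_germ]
  exact Submodule.subset_span ⟨_, rfl⟩

include hK hKf hKa in
/-- The counit at the kernel is an epimorphism. -/
theorem epi_counit :
    Epi ((Scheme.Modules.pullbackPushforwardAdjunction (pullback.snd sX sY)).counit.app K) :=
  CounitEpi51.epi_of_gg _ K fun W hW =>
    (CounitEpi51.gg_restrict_iff K _).2 fun _ hzW => genOn sX sY K hK hKf hKa hW hzW

end Groth.Agent.Lib.KerGen51
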